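import Groth.Agent.EtRad.Dom
import Mathlib.AlgebraicGeometry.Morphisms.Finite

/-! Finite étale-then-finite radicial multisections near the generic point of a noetherian integral affine scheme. -/

set_option autoImplicit false
set_option linter.style.haveILetI false
set_option backward.isDefEq.respectTransparency false
universe u
open CategoryTheory CategoryTheory.Limits AlgebraicGeometry TopologicalSpace
open scoped TensorProduct

noncomputable section

namespace Groth.Agent.EtRadFin

open SmoothStrat EtRad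

/-- the conclusion over an open -/
def Data {B : Type u} [CommRing B] {X : Scheme.{u}} (f : X ⟶ Spec (CommRingCat.of B))
    (U : (Spec (CommRingCat.of B)).Opens) : Prop :=
  ∃ (T' T'' : Scheme.{u}) (h : T' ⟶ U.toScheme) (g : T'' ⟶ T') (σ : T'' ⟶ X),
    IsAffine T' ∧ IsAffine T'' ∧ IsFinite h ∧ IsFinite g ∧ Etale h ∧ AlgebraicGeometry.Surjective h ∧ Flat g ∧
      UniversallyInjective g ∧ AlgebraicGeometry.Surjective g ∧ LocallyOfFinitePresentation g ∧ σ ≫ f = g ≫ h ≫ U.ι

set_option maxHeartbeats 2000000 in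
theorem exists_etRad_domain (B : Type u) [CommRing B] [IsDomain B] [IsNoetherianRing B] {X : Scheme.{u}}
    (f : X ⟶ Spec (CommRingCat.of B)) [LocallyOfFiniteType f] [QuasiCompact f] (c₀ : B) (hc₀ : c₀ ≠ 0) :
    ∃ U : (Spec (CommRingCat.of B)).Opens, (⊥ : PrimeSpectrum B) ∈ U ∧ IsAffineOpen U ∧
      U ≤ PrimeSpectrum.basicOpen c₀ ∧ ((∀ x, f x ∉ U) ∨ Data f U) := by
  classical
  let η : Spec (CommRingCat.of B) := (⊥ : PrimeSpectrum B)
  by_cases hη : ∀ x, f x ≠ η
  · -- the generic fibre is empty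
    let I := Scheme.IdealSheafData.vanishingIdeal (⊤ : Closeds X)
    haveI : IsReduced I.subscheme := DvrDom.isReduced_vanishingIdeal_subscheme _
    obtain ⟨O, hOd, hOflat, hOfp⟩ := S0414.result (I.subschemeι ≫ f)
    obtain ⟨x, hx⟩ := hOd.nonempty
    obtain ⟨_, ⟨b, rfl⟩, hxb, hbO⟩ :=
      PrimeSpectrum.isTopologicalBasis_basic_opens.exists_subset_of_mem_open hx O.2
    have hb : b ≠ 0 := fun h => by simp [h] at hxb
    refine ⟨PrimeSpectrum.basicOpen (c₀ * b), ?_, IsAffineOpen.Spec_basicOpen (R := CommRingCat.of B) _,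
      PrimeSpectrum.basicOpen_mul_le_left c₀ b, Or.inl fun z hz => ?_⟩
    · exact fun h => mul_ne_zero hc₀ hb ((Submodule.mem_bot B).1 h)
    haveI : UniversallyOpen ((I.subschemeι ≫ f) ∣_ O) := UniversallyOpen.of_flat _
    have hzO : f z ∈ O := hbO (PrimeSpectrum.basicOpen_mul_le_right c₀ b hz)
    obtain ⟨w, hw⟩ : z ∈ Set.range I.subschemeι := by
      rw [I.range_subschemeι, Scheme.IdealSheafData.coe_support_vanishingIdeal]; trivial
    let w' : ((I.subschemeι ≫ f) ⁻¹ᵁ O).toScheme := ⟨w, show f (I.subschemeι w) ∈ O from hw.symm ▸ hzO⟩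
    have hopen : IsOpen (O.ι '' Set.range ((I.subschemeι ≫ f) ∣_ O)) :=
      O.ι.isOpenEmbedding.isOpenMap _ ((I.subschemeι ≫ f) ∣_ O).isOpenMap.isOpen_range
    have hmem : η ∈ O.ι '' Set.range ((I.subschemeι ≫ f) ∣_ O) :=
      ((PrimeSpectrum.le_iff_specializes (⊥ : PrimeSpectrum B) (O.ι (((I.subschemeι ≫ f) ∣_ O) w'))).1 bot_le).mem_open
        hopen ⟨_, ⟨w', rfl⟩, rfl⟩
    obtain ⟨_, ⟨p, rfl⟩, hp⟩ := hmem
    refine hη (I.subschemeι (((I.subschemeι ≫ f) ⁻¹ᵁ O).ι p)) ?_
    rw [← hp]
    exact (congrArg (fun φ : ((I.subschemeι ≫ f) ⁻¹ᵁ O).toScheme ⟶ Spec (CommRingCat.of B) => φ p)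
      (morphismRestrict_ι (I.subschemeι ≫ f) O)).symm
  push Not at hη
  obtain ⟨x, hx⟩ := hη
  -- a finite point of the generic fibre
  obtain ⟨W, hW, hxW, -⟩ := exists_isAffineOpen_mem_and_subset (x := x) (U := ⊤) trivial
  let S : CommRingCat.{u} := Γ(X, W)
  obtain ⟨φ, hφ⟩ : ∃ φ : CommRingCat.of B ⟶ S, Spec.map φ = hW.fromSpec ≫ f := Spec.map_surjective _
  letI : Algebra B S := φ.hom.toAlgebra
  haveI hft : Algebra.FiniteType B S := by
    have : LocallyOfFiniteType (Spec.map φ) := by rw [hφ]; infer_instance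
    exact (HasRingHomProperty.Spec_iff (P := @LocallyOfFiniteType)).1 this
  haveI hp : (nilradical B).IsPrime := by
    rw [show nilradical B = ⊥ from nilradical_eq_zero B]
    exact Ideal.isPrime_bot
  let K := GenK B
  have hinjK : Function.Injective (algebraMap B K) := by
    refine (injective_iff_map_eq_zero _).2 fun z hz => ?_
    rw [IsScalarTower.algebraMap_apply B (B ⧸ nilradical B) K, map_eq_zero_iff _ (IsFractionRing.injective _ _),
      Ideal.Quotient.algebraMap_eq, Ideal.Quotient.eq_zero_iff_mem, nilradical_eq_zero B] at hz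
    exact hz
  haveI : Nontrivial (K ⊗[B] S) := by
    let q : PrimeSpectrum S := hW.primeIdealOf ⟨x, hxW⟩
    have hq : q.asIdeal.comap (algebraMap B S) = ⊥ := by
      have h1 : Spec.map φ q = η := by
        rw [hφ]
        show f (hW.fromSpec q) = η
        rw [show hW.fromSpec q = x from hW.fromSpec_primeIdealOf ⟨x, hxW⟩, hx]
      exact congrArg PrimeSpectrum.asIdeal h1
    let F := q.asIdeal.ResidueField
    have hinjF : Function.Injective (algebraMap B F) := by
      refine (injective_iff_map_eq_zero _).2 fun z hz => ?_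
      rw [IsScalarTower.algebraMap_apply B S F, Ideal.algebraMap_residueField_eq_zero] at hz
      exact (Submodule.mem_bot B).1 (hq ▸ hz)
    let l : K →+* F := IsFractionRing.lift (A := B ⧸ nilradical B) (K := K)
      (g := Ideal.Quotient.lift (nilradical B) (algebraMap B F) fun z hz => by
        rw [nilradical_eq_zero B] at hz; rw [(Submodule.mem_bot B).1 hz, map_zero]) (by
        refine (injective_iff_map_eq_zero _).2 fun z hz => ?_
        obtain ⟨z, rfl⟩ := Ideal.Quotient.mk_surjective z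
        rw [Ideal.Quotient.lift_mk] at hz
        rw [hinjF (hz.trans (map_zero _).symm), map_zero])
    let lK : K →ₐ[B] F := { l with
      commutes' := fun z => by
        show l (algebraMap B K z) = _
        rw [IsScalarTower.algebraMap_apply B (B ⧸ nilradical B) K, IsFractionRing.lift_algebraMap]
        rfl }
    exact RingHom.domain_nontrivial (Algebra.TensorProduct.lift lK (IsScalarTower.toAlgHom B S F) fun _ _ => Commute.all _ _).toRingHom
  obtain ⟨L, _, _, _, ⟨ψK⟩⟩ := exists_finite_field_point K (K ⊗[B] S)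
  let Ks := separableClosure K L
  obtain ⟨a, C, _, _, _, ha, hirrC, het, hfin, hsurj, hcomp, -, hker, hfrac⟩ := exists_etale_model B Ks
  haveI := hfin
  have ha0 : a ≠ 0 := fun h => ha (h ▸ zero_mem _)
  let R := Localization.Away a
  haveI : IsDomain R :=
    IsLocalization.isDomain_localization (powers_le_nonZeroDivisors_of_noZeroDivisors ha0)
  haveI : IsNoetherianRing R := IsLocalization.isNoetherianRing (Submonoid.powers a) R inferInstance
  haveI : IsNoetherianRing C := IsNoetherianRing.of_finite R C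
  haveI : _root_.IsReduced C := SmoothRed.isReduced_of_smooth R C
  have hinjC : Function.Injective (algebraMap C Ks) := by
    rw [RingHom.injective_iff_ker_eq_bot, hker]
    exact nilradical_eq_zero C
  haveI : IsDomain C := hinjC.isDomain _
  haveI : IsFractionRing C Ks := by
    refine ⟨fun y => ?_, fun z => ?_, fun {x y} h => ⟨1, by rw [hinjC h]⟩⟩
    · exact IsUnit.mk0 _ fun h => nonZeroDivisors.ne_zero y.2 (hinjC (h.trans (map_zero _).symm))
    · obtain ⟨c, d, hd, h⟩ := hfrac z
      exact ⟨(c, ⟨d, mem_nonZeroDivisors_of_ne_zero fun h0 => hd (by rw [h0, map_zero])⟩), by rw [mul_comm]; exact h⟩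
  letI : Algebra C L := ((algebraMap Ks L).comp (algebraMap C Ks)).toAlgebra
  haveI : IsScalarTower C Ks L := .of_algebraMap_eq fun _ => rfl
  haveI : Module.Finite Ks L := Module.Finite.of_restrictScalars_finite K Ks L
  obtain ⟨C₂, hfin₂, hC₂⟩ := exists_finite_model C Ks L
  haveI := hfin₂
  obtain ⟨c₁, hc₁, huniv, hflat⟩ := exists_radicial_flat (K := Ks) C₂
  -- values of the point on generators
  obtain ⟨t, ht⟩ := hft.1
  let ψ : S →+* L := ψK.toRingHom.comp (Algebra.TensorProduct.includeRight (R := B) (A := K)).toRingHom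
  choose e he hmem using fun s : t => hC₂ (ψ s.1)
  let c₂ : C := c₁ * ∏ s, e s
  have hc₂ : c₂ ≠ 0 := mul_ne_zero hc₁ (Finset.prod_ne_zero_iff.2 fun s _ => nonZeroDivisors.ne_zero (he s))
  haveI : Algebra.IsIntegral R C := Algebra.IsIntegral.of_finite R C
  obtain ⟨r, hr, hrmem⟩ := exists_algebraMap_mem_span (R := R) hc₂
  obtain ⟨b₁, hb₁, hb₁mem⟩ := exists_away_descend ha0 r hr
  let b := c₀ * (a * b₁)
  have hb : b ≠ 0 := mul_ne_zero hc₀ (mul_ne_zero ha0 hb₁)
  let U : (Spec (CommRingCat.of B)).Opens := PrimeSpectrum.basicOpen b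
  have hU : IsAffineOpen U := IsAffineOpen.Spec_basicOpen (R := CommRingCat.of B) b
  refine ⟨U, fun h => hb ((Submodule.mem_bot B).1 h), hU, PrimeSpectrum.basicOpen_mul_le_left _ _, Or.inr ?_⟩
  let bC : C := algebraMap R C (algebraMap B R b)
  have hdvd : ∀ y : C, y ∣ c₂ → y ∣ bC := fun y hy => by
    refine hy.trans ?_
    obtain ⟨d, hd⟩ := Ideal.mem_span_singleton'.1 hb₁mem
    obtain ⟨d', hd'⟩ := Ideal.mem_span_singleton'.1 hrmem
    refine ⟨algebraMap R C (algebraMap B R (c₀ * a) * d) * d', ?_⟩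
    show algebraMap R C (algebraMap B R b) = _
    have e1 : algebraMap R C (algebraMap B R b₁) = algebraMap R C d * (d' * c₂) := by
      rw [← hd, map_mul (algebraMap R C) d r, ← hd']
    rw [show b = c₀ * a * b₁ from (mul_assoc _ _ _).symm, map_mul (algebraMap B R) (c₀ * a) b₁,
      map_mul (algebraMap R C) (algebraMap B R (c₀ * a)) (algebraMap B R b₁), e1,
      map_mul (algebraMap R C) (algebraMap B R (c₀ * a)) d]
    ring
  let ja := Spec.map (CommRingCat.ofHom (algebraMap B R))
  let g₀ := Spec.map (CommRingCat.ofHom (algebraMap R C))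
  let v := Spec.map (CommRingCat.ofHom (algebraMap C C₂))
  let h₀ := g₀ ≫ ja
  let T' := h₀ ⁻¹ᵁ U
  haveI : IsFinite g₀ := (IsFinite.SpecMap_iff _).2 (RingHom.finite_algebraMap.2 hfin)
  haveI : Etale g₀ := by
    rw [HasRingHomProperty.Spec_iff (P := @Etale)]
    exact RingHom.etale_algebraMap.2 het
  haveI : IsFinite v := (IsFinite.SpecMap_iff _).2 (RingHom.finite_algebraMap.2 hfin₂)
  haveI : Etale h₀ := inferInstance
  have hT'eq : (T' : (Spec (CommRingCat.of C)).Opens) = PrimeSpectrum.basicOpen bC := by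
    ext p
    rfl
  have hle₁ : T' ≤ PrimeSpectrum.basicOpen c₁ := by
    rw [hT'eq]
    obtain ⟨d, hd⟩ := hdvd c₁ (dvd_mul_right c₁ _)
    rw [hd]
    exact PrimeSpectrum.basicOpen_mul_le_left c₁ d
  haveI hetU : Etale (h₀ ∣_ U) := MorphismProperty.of_isPullback (P := @Etale) (isPullback_morphismRestrict h₀ U).flip inferInstance
  have hfinU : IsFinite (h₀ ∣_ U) := by
    haveI : IsOpenImmersion ja := inferInstance
    haveI : IsIso (ja ∣_ U) := by
      refine isIso_of_isOpenImmersion_of_opensRange_eq_top _ (eq_top_iff.2 fun p _ => ?_)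
      have hp : (p.1 : PrimeSpectrum B) ∈ Set.range (PrimeSpectrum.comap (algebraMap B R)) := by
        rw [PrimeSpectrum.localization_away_comap_range R a]
        intro h
        exact p.2 (Ideal.mul_mem_left _ _ (Ideal.mul_mem_right _ _ h))
      obtain ⟨q, hq⟩ := hp
      refine ⟨⟨q, show ja q ∈ U by rw [show ja q = p.1 from hq]; exact p.2⟩, U.ι.injective ?_⟩
      show ((ja ∣_ U) ≫ U.ι) _ = _
      rw [morphismRestrict_ι]
      exact hq
    haveI : IsFinite (g₀ ∣_ ja ⁻¹ᵁ U) :=
      MorphismProperty.of_isPullback (P := @IsFinite) (isPullback_morphismRestrict g₀ _).flip inferInstance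
    rw [morphismRestrict_comp]
    infer_instance
  haveI hsurjU : AlgebraicGeometry.Surjective (h₀ ∣_ U) := by
    refine ⟨fun p => ?_⟩
    have hp : (p.1 : PrimeSpectrum B) ∈ Set.range (PrimeSpectrum.comap (algebraMap B R)) := by
      rw [PrimeSpectrum.localization_away_comap_range R a]
      intro h
      exact p.2 (Ideal.mul_mem_left _ _ (Ideal.mul_mem_right _ _ h))
    obtain ⟨q, hq⟩ := hp
    obtain ⟨w, hw⟩ := hsurj.surj q
    refine ⟨⟨w, show h₀ w ∈ U by
      show ja (g₀ w) ∈ U
      rw [show g₀ w = q from hw, show ja q = p.1 from hq]; exact p.2⟩, U.ι.injective ?_⟩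
    show ((h₀ ∣_ U) ≫ U.ι) _ = _
    rw [morphismRestrict_ι]
    show ja (g₀ w) = p.1
    rw [show g₀ w = q from hw]; exact hq
  have hinjv : Function.Injective (algebraMap C C₂) := fun x y h => by
    have h1 : algebraMap C L x = algebraMap C L y := congrArg (fun z : C₂ => (z : L)) h
    exact hinjC ((algebraMap Ks L).injective h1)
  haveI : Algebra.IsIntegral C C₂ := Algebra.IsIntegral.of_finite C C₂
  haveI : AlgebraicGeometry.Surjective v := ⟨fun (q : PrimeSpectrum C) => by
    obtain ⟨Q, -, hQ, hQx⟩ := Ideal.exists_ideal_over_prime_of_isIntegral q.asIdeal (⊥ : Ideal C₂) (by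
      rw [← RingHom.ker_eq_comap_bot, (RingHom.injective_iff_ker_eq_bot _).1 hinjv]
      exact bot_le)
    exact ⟨⟨Q, hQ⟩, PrimeSpectrum.ext hQx⟩⟩
  haveI : LocallyOfFinitePresentation v := by
    rw [HasRingHomProperty.Spec_iff (P := @LocallyOfFinitePresentation)]
    exact RingHom.finitePresentation_algebraMap.2 (Algebra.FinitePresentation.of_finiteType.1 inferInstance)
  haveI hflat' : Flat (v ∣_ T') := MorphismProperty.of_isPullback (P := @Flat) (isPullback_restrict_le v hle₁).flip hflat
  haveI huniv' : UniversallyInjective (v ∣_ T') :=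
    MorphismProperty.of_isPullback (P := @UniversallyInjective) (isPullback_restrict_le v hle₁).flip huniv
  haveI hfin' : IsFinite (v ∣_ T') :=
    MorphismProperty.of_isPullback (P := @IsFinite) (isPullback_morphismRestrict v T').flip inferInstance
  haveI hsurj' := restrict_surjective v T'
  haveI hfp' : LocallyOfFinitePresentation (v ∣_ T') :=
    MorphismProperty.of_isPullback (P := @LocallyOfFinitePresentation) (isPullback_morphismRestrict v T').flip inferInstance
  -- the map to `X`
  let b₂ : C₂ := algebraMap C C₂ bC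
  let Ct := Localization.Away b₂
  have hb₂ : IsUnit (algebraMap C₂ L b₂) := (isUnit_iff_ne_zero (G₀ := L)).2 fun h => by
    have h1 : algebraMap C L bC = algebraMap C L 0 := by rw [map_zero]; exact h
    have h2 : bC = 0 := hinjC ((algebraMap Ks L).injective h1)
    have h3 : algebraMap Ks L (((algebraMap C Ks).comp (algebraMap R C)).comp (algebraMap B R) b) = 0 := by
      show algebraMap Ks L (algebraMap C Ks bC) = 0
      rw [h2, map_zero, map_zero]
    rw [hcomp, RingHom.comp_apply] at h3
    exact hb (hinjK (((algebraMap K Ks).injective ((algebraMap Ks L).injective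
      (h3.trans (by rw [map_zero, map_zero])))).trans (map_zero _).symm))
  let Φ : Ct →+* L := IsLocalization.Away.lift b₂ hb₂
  have hΦ : ∀ y : C₂, Φ (algebraMap C₂ Ct y) = (y : L) := fun y => IsLocalization.Away.lift_eq b₂ hb₂ y
  have hΦinj : Function.Injective Φ := by
    refine (injective_iff_map_eq_zero _).2 fun z hz => ?_
    obtain ⟨n, y, hy⟩ := IsLocalization.Away.surj b₂ z
    have h0 : (y : L) = 0 := by rw [← hΦ, ← hy, map_mul, hz, zero_mul]
    rw [show y = 0 from Subtype.ext h0, map_zero] at hy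
    exact ((IsLocalization.Away.algebraMap_isUnit (S := Ct) b₂).pow n).mul_left_eq_zero.1 hy
  have hψB : ∀ z : B, ψ (algebraMap B S z) = Φ (algebraMap C₂ Ct (algebraMap C C₂ (algebraMap R C (algebraMap B R z)))) := by
    intro z
    rw [hΦ]
    show ψK (Algebra.TensorProduct.includeRight (algebraMap B S z)) =
      algebraMap Ks L (algebraMap C Ks (algebraMap R C (algebraMap B R z)))
    rw [AlgHom.commutes, IsScalarTower.algebraMap_apply B K (K ⊗[B] S), AlgHom.commutes]
    have := RingHom.congr_fun hcomp z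
    simp only [RingHom.comp_apply] at this
    rw [this, ← IsScalarTower.algebraMap_apply K Ks L]
  have hrange : ∀ s : S, ψ s ∈ Φ.range := by
    intro s
    have hs : s ∈ Algebra.adjoin B (t : Set S) := ht ▸ Algebra.mem_top
    induction hs using Algebra.adjoin_induction with
    | algebraMap z => exact ⟨_, (hψB z).symm⟩
    | add p q _ _ hp hq => rw [map_add]; exact add_mem hp hq
    | mul p q _ _ hp hq => rw [map_mul]; exact mul_mem hp hq
    | mem p hp =>
      obtain ⟨d, hd⟩ := hdvd (e ⟨p, hp⟩) ((Finset.dvd_prod_of_mem e (Finset.mem_univ _)).mul_left c₁)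
      refine ⟨algebraMap C₂ Ct (⟨_, hmem ⟨p, hp⟩⟩ * algebraMap C C₂ d) * IsLocalization.Away.invSelf b₂, ?_⟩
      have h1 : algebraMap C L bC * Φ (IsLocalization.Away.invSelf b₂) = 1 := by
        rw [show algebraMap C L bC = Φ (algebraMap C₂ Ct b₂) from (hΦ b₂).symm, ← map_mul,
          IsLocalization.Away.mul_invSelf, map_one]
      rw [map_mul, hΦ]
      show (e ⟨p, hp⟩ • ψ p * algebraMap C L d) * _ = ψ p
      rw [Algebra.smul_def, mul_right_comm (algebraMap C L (e ⟨p, hp⟩)), ← map_mul, ← hd, mul_comm (algebraMap C L bC),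
        mul_assoc, h1, mul_one]
  let χ : S →+* Ct := (RingEquiv.ofBijective Φ.rangeRestrict
    ⟨fun p q h => hΦinj (congrArg Subtype.val h), Φ.rangeRestrict_surjective⟩).symm.toRingHom.comp
      (ψ.codRestrict Φ.range hrange)
  have hχ : ∀ s, Φ (χ s) = ψ s := fun s =>
    congrArg Subtype.val ((RingEquiv.ofBijective Φ.rangeRestrict
      ⟨fun p q h => hΦinj (congrArg Subtype.val h), Φ.rangeRestrict_surjective⟩).apply_symm_apply (ψ.codRestrict Φ.range hrange s))
  let j₂ := Spec.map (CommRingCat.ofHom (algebraMap C₂ Ct))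
  haveI : IsOpenImmersion j₂ := inferInstance
  have hr₂ : Set.range (v ⁻¹ᵁ T').ι = Set.range j₂ := by
    rw [Scheme.Opens.range_ι]
    show (v ⁻¹' (T' : Set _)) = Set.range (PrimeSpectrum.comap (algebraMap C₂ Ct))
    rw [PrimeSpectrum.localization_away_comap_range Ct b₂, hT'eq]
    rfl
  let ε := IsOpenImmersion.isoOfRangeEq (v ⁻¹ᵁ T').ι j₂ hr₂
  have hε : ε.hom ≫ j₂ = (v ⁻¹ᵁ T').ι := IsOpenImmersion.lift_fac _ _ _
  haveI : IsAffine T'.toScheme := hU.preimage h₀
  haveI : IsAffine (v ⁻¹ᵁ T').toScheme := (hU.preimage h₀).preimage v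
  refine ⟨T'.toScheme, (v ⁻¹ᵁ T').toScheme, h₀ ∣_ U, v ∣_ T', ε.hom ≫ Spec.map (CommRingCat.ofHom χ) ≫ hW.fromSpec,
    inferInstance, inferInstance, hfinU, hfin', hetU, hsurjU, hflat', huniv', hsurj', hfp', ?_⟩
  rw [morphismRestrict_ι, morphismRestrict_ι_assoc, ← hε]
  simp only [Category.assoc]
  congr 1
  rw [← hφ, ← Spec.map_comp, ← Category.assoc]
  show _ = (Spec.map _ ≫ Spec.map _) ≫ Spec.map _ ≫ Spec.map _
  rw [← Spec.map_comp, ← Spec.map_comp, ← Spec.map_comp]
  refine congrArg Spec.map (CommRingCat.hom_ext (RingHom.ext fun z => hΦinj ?_))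
  show Φ (χ (algebraMap B S z)) = _
  rw [hχ, hψB]
  rfl

end Groth.Agent.EtRadFin
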