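import Groth.Agent.EtRad.Main
import Groth.Agent.EtRadFin.Dom

/-! Stratification by finite étale-then-finite radicial multisections. -/

set_option autoImplicit false
set_option linter.style.haveILetI false
set_option backward.isDefEq.respectTransparency false
universe u
open CategoryTheory CategoryTheory.Limits AlgebraicGeometry TopologicalSpace Topology

noncomputable section

namespace Groth.Agent.EtRadFin

open SmoothStrat EtRad

variable {X S : Scheme.{u}}

/-- a piece of the stratification over a noetherian base -/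
def Good (f : X ⟶ S) (C D : Closeds S) : Prop :=
  (∀ x, f x ∉ (C : Set S) \ (D : Set S)) ∨
  ∃ (T T' T'' : Scheme.{u}) (e : T ⟶ S) (h : T' ⟶ T) (g : T'' ⟶ T') (σ : T'' ⟶ X),
    IsAffine T ∧ IsAffine T' ∧ IsAffine T'' ∧ IsImmersion e ∧ Set.range e = (C : Set S) \ (D : Set S) ∧
    IsFinite h ∧ IsFinite g ∧ Etale h ∧ AlgebraicGeometry.Surjective h ∧ Flat g ∧ UniversallyInjective g ∧ AlgebraicGeometry.Surjective g ∧
    LocallyOfFinitePresentation g ∧ σ ≫ f = g ≫ h ≫ e

set_option maxHeartbeats 1000000 in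
theorem exists_good [IsNoetherian S] (f : X ⟶ S) [LocallyOfFiniteType f] [QuasiCompact f] (C : Closeds S)
    (hC : (C : Set S).Nonempty) : ∃ D : Closeds S, D < C ∧ Good f C D := by
  let I := Scheme.IdealSheafData.vanishingIdeal C
  haveI : IsReduced I.subscheme := DvrDom.isReduced_vanishingIdeal_subscheme C
  haveI : IsLocallyNoetherian I.subscheme := LocallyOfFiniteType.isLocallyNoetherian I.subschemeι
  have hι : Set.range I.subschemeι = (C : Set S) := by rw [I.range_subschemeι, support_vi]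
  haveI : Nonempty I.subscheme := by
    obtain ⟨x, hx⟩ := hC
    obtain ⟨z, -⟩ := (hι ▸ hx : x ∈ Set.range I.subschemeι)
    exact ⟨z⟩
  obtain ⟨B, _, _, _, κ, O, hO, hopen⟩ := exists_integral_open I.subscheme
  obtain ⟨_, ⟨c₀, rfl⟩, hc₀, hc₀O⟩ :=
    PrimeSpectrum.isTopologicalBasis_basic_opens.exists_subset_of_mem_open (show (⊥ : PrimeSpectrum B) ∈ O from hO) O.2
  have hc₀' : c₀ ≠ 0 := fun h => by simp [h] at hc₀
  let φ := κ ≫ I.subschemeι
  obtain ⟨U, hU, hUaff, hUc, hdata⟩ := EtRadFin.exists_etRad_domain B (pullback.snd f φ) c₀ hc₀'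
  have hUO : U ≤ O := hUc.trans hc₀O
  let k₁ : U.toScheme ⟶ I.subscheme := U.ι ≫ κ
  haveI : IsOpenImmersion k₁ := by
    have e : k₁ = (Spec (CommRingCat.of B)).homOfLE hUO ≫ O.ι ≫ κ := by simp [k₁]
    rw [e]; infer_instance
  have hc : IsClosed (I.subschemeι '' (Set.range k₁)ᶜ) :=
    I.subschemeι.isClosedEmbedding.isClosedMap _ k₁.isOpenEmbedding.isOpen_range.isClosed_compl
  let D : Closeds S := ⟨_, hc⟩
  have hDC : (D : Set S) ⊆ C := (Set.image_subset_range _ _).trans hι.le
  have hrange : Set.range (k₁ ≫ I.subschemeι) = (C : Set S) \ (D : Set S) := by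
    ext s
    constructor
    · rintro ⟨p, rfl⟩
      exact ⟨hι ▸ ⟨k₁ p, rfl⟩, fun ⟨z, hz, he⟩ => hz ⟨p, (I.subschemeι.isClosedEmbedding.injective he).symm⟩⟩
    · rintro ⟨hs, hsD⟩
      obtain ⟨z, rfl⟩ := (hι ▸ hs : s ∈ Set.range I.subschemeι)
      by_contra hne
      exact hsD ⟨z, fun ⟨p, hp⟩ => hne ⟨p, by rw [← hp]; rfl⟩, rfl⟩
  refine ⟨D, lt_of_le_of_ne hDC fun h => ?_, ?_⟩
  · let pt : U.toScheme := ⟨(⊥ : PrimeSpectrum B), hU⟩
    have hmem : I.subschemeι (k₁ pt) ∈ (D : Set S) := by rw [h]; exact hι ▸ ⟨_, rfl⟩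
    obtain ⟨z, hz, he⟩ := hmem
    exact hz ⟨pt, (I.subschemeι.isClosedEmbedding.injective he).symm⟩
  have hsq := IsPullback.of_hasPullback f φ
  rcases hdata with hno | ⟨T', T'', h, g, σ, ha', ha'', k1, k2, h1, h2, h3, h4, h5, h6, h7⟩
  · refine Or.inl fun x hx => ?_
    rw [← hrange] at hx
    obtain ⟨p, hp⟩ := hx
    obtain ⟨z, hz1, hz2⟩ := Scheme.Pullback.exists_preimage_pullback (f := f) (g := φ) x (U.ι p) hp.symm
    apply hno z
    rw [hz2]
    exact p.2
  · refine Or.inr ⟨U.toScheme, T', T'', k₁ ≫ I.subschemeι, h, g, σ ≫ pullback.fst f φ, hUaff, ha', ha'', inferInstance,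
      hrange, k1, k2, h1, h2, h3, h4, h5, h6, ?_⟩
    rw [Category.assoc, pullback.condition, reassoc_of% h7]
    simp [k₁, φ]

/-- chains -/
inductive Reach (f : X ⟶ S) : Closeds S → Prop
  | bot : Reach f ⊥
  | step (C D : Closeds S) : D ≤ C → Good f C D → Reach f D → Reach f C

theorem exists_reach [IsNoetherian S] (f : X ⟶ S) [LocallyOfFiniteType f] [QuasiCompact f] (C : Closeds S) :
    Reach f C := by
  induction C using WellFoundedLT.induction with
  | _ C ih =>
    by_cases hC : (C : Set S).Nonempty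
    · obtain ⟨D, hDC, h⟩ := exists_good f C hC
      exact .step C D hDC.le h (ih D hDC)
    · rw [show C = ⊥ from Closeds.ext (Set.not_nonempty_iff_eq_empty.1 hC)]
      exact .bot

theorem Reach.exists_chain {f : X ⟶ S} {C : Closeds S} (h : Reach f C) :
    ∃ (t : ℕ) (D : Fin (t + 1) → Closeds S), D 0 = C ∧ D (Fin.last t) = ⊥ ∧
      ∀ i : Fin t, D i.succ ≤ D i.castSucc ∧ Good f (D i.castSucc) (D i.succ) := by
  induction h with
  | bot => exact ⟨0, fun _ => ⊥, rfl, rfl, fun i => i.elim0⟩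
  | step C D hle hp _ ih =>
    obtain ⟨t, E, h0, hlast, hstep⟩ := ih
    refine ⟨t + 1, Fin.cons C E, Fin.cons_zero _ _, ?_, fun i => ?_⟩
    · rw [← Fin.succ_last, Fin.cons_succ, hlast]
    · induction i using Fin.cases with
      | zero =>
        rw [Fin.cons_succ, Fin.castSucc_zero, Fin.cons_zero, h0]
        exact ⟨hle, hp⟩
      | succ i =>
        rw [Fin.cons_succ, ← Fin.succ_castSucc, Fin.cons_succ]
        exact hstep i

set_option maxHeartbeats 1000000 in
theorem exists_stratification (f : X ⟶ S) [LocallyOfFinitePresentation f] [QuasiCompact f] [QuasiSeparated f]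
    [AlgebraicGeometry.Surjective f] [CompactSpace S] [QuasiSeparatedSpace S] :
    ∃ (ι : Type u) (_ : Finite ι) (T T' T'' : ι → Scheme.{u}) (e : ∀ i, T i ⟶ S)
      (h : ∀ i, T' i ⟶ T i) (g : ∀ i, T'' i ⟶ T' i) (σ : ∀ i, T'' i ⟶ X),
      (∀ i, IsAffine (T i) ∧ IsImmersion (e i) ∧ QuasiCompact (e i) ∧ LocallyOfFinitePresentation (e i)) ∧
      (∀ i j, i ≠ j → Disjoint (Set.range (e i).base) (Set.range (e j).base)) ∧
      (⋃ i, Set.range (e i).base) = Set.univ ∧
      (∀ i, IsFinite (h i) ∧ IsFinite (g i) ∧ Etale (h i) ∧ AlgebraicGeometry.Surjective (h i) ∧ QuasiCompact (h i) ∧ QuasiSeparated (h i)) ∧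
      (∀ i, Flat (g i) ∧ UniversallyInjective (g i) ∧ AlgebraicGeometry.Surjective (g i) ∧
        LocallyOfFinitePresentation (g i) ∧ QuasiCompact (g i) ∧ QuasiSeparated (g i)) ∧
      (∀ i, σ i ≫ f = g i ≫ h i ≫ e i) := by
  classical
  obtain ⟨X₀, S₀, f₀, π, gX, _, _, _, _, hX⟩ := exists_affine_noetherian_model f
  obtain ⟨t, D, h0, hlast, hstep⟩ := (exists_reach f₀ ⊤).exists_chain
  let G : Fin t → Prop := fun i => ∃ x, f₀ x ∈ (D i.castSucc : Set S₀) \ (D i.succ : Set S₀)
  have hdata : ∀ i : {i : Fin t // G i}, ∃ (T T' T'' : Scheme.{u}) (e : T ⟶ S₀) (h : T' ⟶ T) (g : T'' ⟶ T')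
      (σ : T'' ⟶ X₀), IsAffine T ∧ IsAffine T' ∧ IsAffine T'' ∧ IsImmersion e ∧
        Set.range e = (D i.1.castSucc : Set S₀) \ (D i.1.succ : Set S₀) ∧
        IsFinite h ∧ IsFinite g ∧ Etale h ∧ AlgebraicGeometry.Surjective h ∧ Flat g ∧ UniversallyInjective g ∧ AlgebraicGeometry.Surjective g ∧
        LocallyOfFinitePresentation g ∧ σ ≫ f₀ = g ≫ h ≫ e := fun i => by
    rcases (hstep i.1).2 with hno | hd
    · obtain ⟨x, hx⟩ := i.2
      exact absurd hx (hno x)
    · exact hd
  choose T T' T'' e h g σ hT hT' hT'' he hre k1 k2 h1 h2 h3 h4 h5 h6 hcomm using hdata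
  let ι := ULift.{u} {i : Fin t // G i}
  let eS : ∀ i : ι, pullback (e i.down) π ⟶ S := fun i => pullback.snd (e i.down) π
  let hS : ∀ i : ι, pullback (h i.down) (pullback.fst (e i.down) π) ⟶ pullback (e i.down) π := fun i => pullback.snd _ _
  let gS : ∀ i : ι, pullback (g i.down) (pullback.fst (h i.down) (pullback.fst (e i.down) π)) ⟶
      pullback (h i.down) (pullback.fst (e i.down) π) := fun i => pullback.snd _ _
  let σS : ∀ i : ι, pullback (g i.down) (pullback.fst (h i.down) (pullback.fst (e i.down) π)) ⟶ X := fun i =>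
    hX.lift (pullback.fst _ _ ≫ σ i.down) (gS i ≫ hS i ≫ eS i) (by
      simp only [gS, hS, eS, Category.assoc, hcomm]
      rw [pullback.condition_assoc, pullback.condition_assoc, pullback.condition])
  have hanti : Antitone D := Fin.antitone_iff_succ_le.2 fun i => (hstep i).1
  have hrange : ∀ i : ι, Set.range (eS i) = π ⁻¹' ((D i.down.1.castSucc : Set S₀) \ (D i.down.1.succ : Set S₀)) :=
    fun i => by rw [Scheme.Pullback.range_snd, hre]
  refine ⟨ι, inferInstance, _, _, _, eS, hS, gS, σS, fun i => ?_, fun i j hij => ?_, ?_, fun i => ?_, fun i => ?_,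
    fun i => hX.lift_snd _ _ _⟩
  · haveI := he i.down
    haveI := hT i.down
    haveI : LocallyOfFiniteType (e i.down) := inferInstance
    haveI : LocallyOfFinitePresentation (e i.down) := by
      haveI : IsLocallyNoetherian (T i.down) := LocallyOfFiniteType.isLocallyNoetherian (e i.down)
      exact inferInstance
    haveI : QuasiCompact (e i.down) := quasiCompact_of_compactSpace _
    exact ⟨isAffine_of_isAffineHom (pullback.fst (e i.down) π), inferInstance, inferInstance, inferInstance⟩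
  · show Disjoint (Set.range (eS i)) (Set.range (eS j))
    rw [hrange, hrange]
    refine Disjoint.preimage _ ?_
    have key : ∀ p q : Fin t, p < q →
        Disjoint ((D p.castSucc : Set S₀) \ (D p.succ : Set S₀)) ((D q.castSucc : Set S₀) \ (D q.succ : Set S₀)) :=
      fun p q hpq => Set.disjoint_left.2 fun s hs hs' => hs.2 (hanti (Fin.succ_le_castSucc_iff.2 hpq) hs'.1)
    rcases lt_trichotomy i.down.1 j.down.1 with hlt | heq | hgt
    · exact key _ _ hlt
    · exact absurd (ULift.ext _ _ (Subtype.ext heq)) hij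
    · exact (key _ _ hgt).symm
  · refine Set.eq_univ_of_forall fun s => ?_
    obtain ⟨x, rfl⟩ := f.surjective s
    obtain ⟨i, hi, hi'⟩ : ∃ i : Fin t, π (f x) ∈ (D i.castSucc : Set S₀) ∧ π (f x) ∉ (D i.succ : Set S₀) := by
      by_contra hne
      push Not at hne
      have hall : ∀ j, π (f x) ∈ (D j : Set S₀) := fun j => by
        induction j using Fin.induction with
        | zero => rw [h0]; trivial
        | succ j ih => exact hne j ih
      have := hall (Fin.last t)
      rw [hlast] at this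
      exact this
    have hG : G i := ⟨gX x, by
      rw [show f₀ (gX x) = π (f x) from congrArg (fun φ : X ⟶ S₀ => φ x) hX.w]
      exact ⟨hi, hi'⟩⟩
    refine Set.mem_iUnion.2 ⟨⟨⟨i, hG⟩⟩, ?_⟩
    show f x ∈ Set.range (eS ⟨⟨i, hG⟩⟩)
    rw [hrange]
    exact ⟨hi, hi'⟩
  · haveI := hT i.down
    haveI := hT' i.down
    haveI := h1 i.down
    exact ⟨MorphismProperty.pullback_snd _ _ (k1 i.down), MorphismProperty.pullback_snd _ _ (k2 i.down),
      inferInstance, MorphismProperty.pullback_snd _ _ (h2 i.down), inferInstance, inferInstance⟩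
  · haveI := hT' i.down
    haveI := hT'' i.down
    haveI := h3 i.down
    haveI := h6 i.down
    exact ⟨inferInstance, MorphismProperty.pullback_snd _ _ (h4 i.down), MorphismProperty.pullback_snd _ _ (h5 i.down),
      inferInstance, inferInstance, inferInstance⟩

end Groth.Agent.EtRadFin
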